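import Mathlib
import Cfsg.Agent.O3R.Fus
import Cfsg.Agent.O3R.MoF

/-! Automorphisms of `Ω₈⁺(2)` centralising `Q`. -/

set_option autoImplicit false
set_option maxRecDepth 100000

namespace Cfsg.Agent.O3R

open Subgroup Cfsg.Agent.TT Cfsg.Agent.LES Cfsg.Agent.XSC Cfsg.Agent.Comp.BN Cfsg.Agent.O8C

theorem aq1 : ∀ k < 6, eqC val [k + 12, k + 12, k + 12] [] = true := by decide +kernel

theorem aq2 : allN (fun a => allN (fun b => allN (fun c => decide
    ((∀ i ∈ [0, 1, 2, 4], wact (tw a b c) (2 ^ i) = 2 ^ i) → a = 0 ∧ b = 0 ∧ c = 0)) 6) 6) 6 = true := by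
  decide +kernel

/-- the conditions on `x⁻¹ φ(x)` -/
noncomputable def aqC (U : List ℕ) : Bool :=
  bif' (band (allL (fun b => comC val [b] U) [0, 1, 2, 4]) (band (eqC val (18 :: (U ++ 18 :: U)) [])
    (allL (fun p : ℕ × ℕ => eqvC val (18 :: (U ++ p.1 :: 18 :: U)) [p.1, p.2]) [(3, 11), (5, 10), (6, 9)])))
    (bor (eqC val U []) (eqC val U [0])) true

theorem aq3 : allN (fun n => band (aqC (cw n)) (aqC (cw n ++ [8]))) 256 = true := by decide +kernel

theorem aq_xr {p : ℕ × ℕ} (hp : p ∈ [(3, 11), (5, 10), (6, 9)]) :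
    m 18 * m p.1 * m 18 = m p.1 * m p.2 := by
  have : ∀ p ∈ [(3, 11), (5, 10), (6, 9)], eqC val [18, p.1, 18] [p.1, p.2] = true := by decide +kernel
  simpa [mul_assoc] using orc.eq (this p hp)

variable {φ : MulAut Mo} (h : ∀ a ∈ Qy m, φ a = a)
include h

theorem aq_eqv {g : Mo} (hg : g * m 8 = m 8 * g) : Eqv (m 8) (φ g) g := by
  have k : ∀ a ∈ Qy m, a * (g⁻¹ * φ g) = g⁻¹ * φ g * a := fun a ha => by
    have e := h _ (lx0.norm g hg a ha)
    rw [map_mul, map_mul, map_inv, h a ha] at e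
    calc _ = g⁻¹ * (g * a * g⁻¹) * φ g := by group
      _ = _ := by rw [← e]; group
  exact (lx0.cent _ (lx0.cent_mem _ k) fun a ha => (k a ha).symm).imp
    (fun e => (inv_mul_eq_one.1 e).symm) fun e => inv_mul_eq_iff_eq_mul.1 e

theorem aq_one (hx : φ (m 18) = m 18) : φ = 1 := by
  have : φ.toMonoidHom.eqLocus (MonoidHom.id Mo) = ⊤ := eq_top_of fun k => by
    show φ (m k) = m k
    have r : ∀ p ∈ [(3, 11), (5, 10), (6, 9)], φ (m p.2) = m p.2 := fun p hp => by
      have q : φ (m p.1) = m p.1 := h _ (q_mem (by revert p; decide))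
      have := congrArg φ (aq_xr hp)
      rw [map_mul, map_mul, map_mul, hx, q, aq_xr hp] at this
      exact (mul_left_cancel this).symm
    by_cases h9 : k < 9
    · exact h _ (q_mem h9)
    by_cases h12 : k < 12
    · interval_cases k
      exacts [r (6, 9) (by simp), r (5, 10) (by simp), r (3, 11) (by simp)]
    by_cases h18 : k < 18
    · refine (aq_eqv h (lz orc h18)).resolve_right fun e => z_ne orc ?_
      have c : m k ^ 3 = 1 := by
        have := orc.eq (aq1 (k - 12) (by omega))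
        rw [show k - 12 + 12 = k by omega] at this
        simpa [pow_succ, mul_assoc] using this
      have := congrArg φ c
      rwa [map_pow, e, map_one, (show Commute _ _ from lz orc h18).mul_pow, c, one_mul, pow_succ, pow_two,
        zz orc, one_mul] at this
    by_cases h19 : k = 18
    · exact h19 ▸ hx
    · rw [m, cut_le _ (by omega), map_one]
  exact MulEquiv.ext fun a => (this ▸ mem_top a : a ∈ φ.toMonoidHom.eqLocus (MonoidHom.id Mo))

theorem aq_x : φ (m 18) = m 18 ∨ φ (m 18) = m 18 * m 0 := by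
  obtain ⟨u, hu⟩ : ∃ u, φ (m 18) = m 18 * u := ⟨_, (mul_inv_cancel_left _ _).symm⟩
  have k : ∀ a ∈ Qy m, m 18 * a * (m 18)⁻¹ ∈ Qy m → u * a = a * u := fun a ha hb => by
    have e := h _ hb
    rw [map_mul, map_mul, map_inv, h a ha, hu] at e
    calc _ = (m 18)⁻¹ * (m 18 * u * a * (m 18 * u)⁻¹) * m 18 * u := by group
      _ = _ := by rw [e]; group
  have kb : ∀ b ∈ [0, 1, 2, 4], b < 8 ∧ u * m b = m b * u := fun b hb => by
    have l : b < 8 := by revert b; decide
    have : ∀ b ∈ [0, 1, 2, 4], eqC val [18, b, 18] [b] = true := by decide +kernel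
    have e : m 18 * m b * (m 18)⁻¹ = m b := by simpa [x_inv orc, mul_assoc] using orc.eq (this b hb)
    exact ⟨l, k _ (q_mem (by omega)) (e.symm ▸ q_mem (by omega))⟩
  obtain ⟨δ, hδ, a, ha, b, hb, c, hc, e⟩ := C_nf (k _ (q_mem (b := 8) (by decide))
    (xzx orc ▸ mul_mem (q_mem (by decide)) (q_mem (by decide))))
  have t := aq2
  simp only [allN_eq, decide_eq_true_eq] at t
  obtain ⟨rfl, rfl, rfl⟩ := t a ha b hb c hc fun i hi => by
    rw [← act_nf orc hδ (tw_lt a ha b hb c hc) (Nat.pow_lt_pow_right (by decide) (kb i hi).1), ← e,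
      act_of_comm orc (kb i hi).1 (kb i hi).2]
  have uQ : u ∈ Qy m := by simpa [e, tw, t6] using hδ
  obtain ⟨U, hU, rfl⟩ : ∃ U, aqC U = true ∧ ev m U = u := by
    have := (band_eq _ _).1 ((allN_eq _ _).1 aq3 _ (κ_lt (y := m) u))
    rcases κ_spec orc uQ with e | e
    · exact ⟨_, this.1, e.symm⟩
    · exact ⟨_, this.2, by simpa using e.symm⟩
  rw [aqC, bif'_eq, if_pos, bor_eq] at hU
  · exact hU.imp (fun e => by simpa [orc.eq e] using hu) fun e => by simpa [orc.eq e] using hu
  simp only [band_eq, allL_eq]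
  refine ⟨fun b hb => orc.eq_iff.2 (by simpa [ev_app] using (kb b hb).2.symm), orc.eq_iff.2 ?_,
    fun p hp => ?_⟩
  · have := congrArg φ (xx orc)
    rw [map_mul, hu, map_one] at this
    simpa [mul_assoc] using this
  · have q : φ (m p.1) = m p.1 := h _ (q_mem (by revert p; decide))
    have := congrArg φ (aq_xr hp)
    rw [map_mul, map_mul, map_mul, hu, q] at this
    rw [eqvC, force_eq, bor_eq]
    refine (aq_eqv h (lz orc (k := p.2) (by clear q this; revert p; decide))).imp
      (fun e => orc.eq_iff.2 ?_) fun e => (orc.eq_iff (V := appendL _ _)).2 ?_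
    · simpa [e, mul_assoc] using this
    · simpa [e, mul_assoc, ev_app] using this

omit h

/-- an automorphism of `Ω₈⁺(2)` centralising `Q` is trivial or conjugation by `z` -/
theorem autQ (φ : MulAut Mo) (h : ∀ a ∈ Qy m, φ a = a) : φ = 1 ∨ φ = MulAut.conj (m 8) := by
  refine (aq_x h).imp (aq_one h) fun e => (inv_mul_eq_one.1 (aq_one (fun a ha => ?_) ?_)).symm
  · simp [h a ha, mul_assoc, Qz orc ha]
  · have : m 8 * m 18 * (m 8)⁻¹ = m 18 * m 0 := by
      simpa [inv_eq_of_mul_eq_one_right (zz orc), mul_assoc] using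
        orc.eq (U := [8, 18, 8]) (V := [18, 0]) (by decide +kernel)
    rw [MulAut.mul_apply, e, ← this]
    simp [mul_assoc]

end Cfsg.Agent.O3R
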