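import Mathlib
import Cfsg.Agent.O3R.C0
import Cfsg.Agent.S5426

/-! `F*(G)` is simple. -/

set_option autoImplicit false
set_option maxRecDepth 100000

namespace Cfsg.Agent.O3R

open Subgroup Cfsg.Agent.TT Cfsg.Agent.LES Cfsg.Agent.XSC Cfsg.Agent.Comp.BN Cfsg.Agent.O8C

variable {G : Type*} [Group G] [Finite G]

/-- extraspecial `2`-groups are of symplectic type -/
theorem symp_of_XS {z : G} (h : XS (⊤ : Subgroup G) z) : Cfsg.IsOfSymplecticType G := by
  classical
  refine ⟨fun x => ⟨2, by simpa using h.pow_four (mem_top x)⟩, fun A hA hc => ?_⟩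
  have cm : ∀ a ∈ A, ∀ b ∈ A, a * b = b * a := fun a ha b hb =>
    congrArg Subtype.val (hc.is_comm.comm (⟨a, ha⟩ : A) ⟨b, hb⟩)
  have zc : ∀ x, x * z = z * x := fun x => h.z_comm x (mem_top x)
  have k1 : ∀ s, s * s = z → ∀ a ∈ A, a * s = s * a := fun s hs a ha => by
    by_contra hne
    let f : G →* G := MonoidHom.mk' (fun x => if x * s = s * x then x else x * s) fun x y => by
      by_cases hx : x * s = s * x <;> by_cases hy : y * s = s * y
      · rw [if_pos hx, if_pos hy, if_pos (comm_mul_left hx hy)]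
      · rw [if_pos hx, if_neg hy, if_neg, mul_assoc]
        exact fun e => hy (by simpa using comm_mul_left (comm_inv_left hx) e)
      · rw [if_neg hx, if_pos hy, if_neg, mul_assoc, hy, mul_assoc]
        exact fun e => hx (by simpa using comm_mul_left e (comm_inv_left hy))
      · rw [if_neg hx, if_neg hy,
          if_pos (h.mul_comm_of_not_comm (mem_top _) (mem_top _) (mem_top _) hx hy),
          show x * s * (y * s) = x * (s * (y * s)) by group,
          h.comm_of_ne (mem_top _) (mem_top _) hy, ← mul_assoc s, ← mul_assoc s, hs, ← zc y,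
          h.mul_z_z]
    have fi : Function.Injective f := (injective_iff_map_eq_one f).2 fun x e => by
      change (if x * s = s * x then x else x * s) = 1 at e
      split_ifs at e with hx
      · exact e
      · exact absurd (by rw [eq_inv_of_mul_eq_one_left e]; simp) hx
    have h1 := (characteristic_iff_le_comap.1 hA
      (MulEquiv.ofBijective f (Finite.injective_iff_bijective.1 fi))) ha
    change (if a * s = s * a then a else a * s) ∈ A at h1
    rw [if_neg hne, A.mul_mem_cancel_left ha] at h1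
    exact hne (cm a ha s h1)
  have k2 : ∀ a ∈ A, a ≠ 1 → a ≠ z → a * a = z := fun a ha a1 az => by
    obtain ⟨y, -, hy⟩ := h.exists_not_comm (mem_top a) a1 az
    have y2 : y * y = 1 := (h.sq (mem_top y)).resolve_right fun e => hy (k1 y e a ha)
    have y3 : a * y * (a * y) = 1 := (h.sq (mem_top _)).resolve_right fun e => hy (by
      have := k1 _ e a ha
      rwa [mul_assoc, mul_right_inj] at this)
    rw [show a * y * (a * y) = a * (y * a) * y by group,
      h.comm_of_ne (mem_top y) (mem_top a) (Ne.symm hy),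
      show a * (a * y * z) * y = a * a * (y * (z * y)) by group, ← zc y, ← mul_assoc y, y2,
      one_mul] at y3
    rw [eq_inv_of_mul_eq_one_left y3, h.z_inv]
  obtain ⟨a, ha, hg⟩ : ∃ a ∈ A, ∀ b ∈ A, b ∈ zpowers a := by
    by_cases hn : ∃ a ∈ A, a ≠ 1 ∧ a ≠ z
    · obtain ⟨a, ha, a1, az⟩ := hn
      have hz : z ∈ zpowers a := k2 a ha a1 az ▸ mul_mem (mem_zpowers a) (mem_zpowers a)
      have k3 : ∀ b, b = 1 ∨ b = z → b ∈ zpowers a := by
        rintro _ (rfl | rfl)
        exacts [one_mem _, hz]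
      refine ⟨a, ha, fun b hb => ?_⟩
      by_contra hb'
      refine hb' ((mul_mem_cancel_left (mem_zpowers a)).1 (k3 _ ?_))
      by_contra h4
      have h5 := k2 _ (mul_mem ha hb) (fun e => h4 (.inl e)) fun e => h4 (.inr e)
      rw [show a * b * (a * b) = a * (b * a) * b by group, ← cm a ha b hb,
        show a * (a * b) * b = a * a * (b * b) by group, k2 a ha a1 az,
        k2 b hb (fun e => hb' (k3 b (.inl e))) (fun e => hb' (k3 b (.inr e))), h.z_sq] at h5
      exact h.z_ne h5.symm
    · push Not at hn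
      by_cases hz : z ∈ A
      · refine ⟨z, hz, fun b hb => (mem_zpowers_invol h.z_sq).2 ?_⟩
        exact or_iff_not_imp_left.2 (hn b hb)
      · refine ⟨1, one_mem _, fun b hb => ?_⟩
        by_cases b1 : b = 1
        · rw [b1]; exact one_mem _
        · exact absurd (hn b hb b1 ▸ hb) hz
  rw [show A = zpowers a from le_antisymm hg (zpowers_le.2 ha)]
  infer_instance

omit [Finite G] in
theorem lx_subX {Q : Subgroup G} {z : G} (h : LX Q z) {H : Subgroup G} (hH : Q ≤ H) :
    LX (Q.subgroupOf H) ⟨z, hH h.z_mem⟩ := by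
  obtain ⟨x, a, b, c⟩ := h.nonab
  exact ⟨⟨h.z_mem, fun e => h.z_ne (congrArg Subtype.val e), Subtype.ext h.z_sq,
    fun x a => Subtype.ext (h.z_comm x a),
    fun x a y b => (h.comm x a y b).imp Subtype.ext Subtype.ext,
    fun x a b => (h.cent x a fun y c => congrArg Subtype.val (b ⟨y, hH c⟩ c)).imp Subtype.ext Subtype.ext,
    ⟨x, hH a⟩, a, fun e => b (congrArg Subtype.val e), fun e => c (congrArg Subtype.val e)⟩,
    fun c b => h.cent_mem c fun y a => congrArg Subtype.val (b ⟨y, hH a⟩ a),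
    fun c b x a => h.norm c (congrArg Subtype.val b) x a⟩

omit [Finite G] in
theorem o2c_subX {X : Subgroup G} [hX : X.Normal] (z : X) : O2C z ≤ (O2C (z : G)).subgroupOf X := by
  intro x hx
  refine le_O2C (D := (O2C z).map X.subtype) ((O2C_isPGroup z).map _) ?_ ?_ ⟨x, hx, rfl⟩
  · rintro _ ⟨d, a, rfl⟩
    exact congrArg Subtype.val (comm_of_mem_O2C a)
  · rintro c hc _ ⟨d, a, rfl⟩
    let α : X ≃* X := MulAut.conjNormal c
    have hα : α z = z := Subtype.ext (conj_eq_of_comm hc)
    refine ⟨α d, le_O2C (D := (O2C z).map α.toMonoidHom) ((O2C_isPGroup z).map _) ?_ ?_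
      ⟨d, a, rfl⟩, rfl⟩
    · rintro _ ⟨d, a, rfl⟩
      simpa [hα] using congrArg α (comm_of_mem_O2C a)
    · rintro c b _ ⟨d, a, rfl⟩
      exact ⟨_, conj_mem_O2C a (c := α.symm c) (α.injective (by simpa [hα] using b)), by simp⟩

/-- `y k = θ (m k)`, `o = orc_θ inj`, `Q = Qy y`, `z = y 8`.  `g = y 18` has `g z g⁻¹ = y 0 * z ∈ Q` (`xzx`, `xx`),
so `IsLargeExtraspecial Q` (`LX.isLarge_of_mem_map_conj`, `mem_map_conj_of_card`, `card_Q`; see S5436).  `M = normalClosure {z}`
contains `θ.range` (`M.comap θ` is normal and non-trivial in the simple group `Mo`).  Cases of `S5426.result`: `Q` normal gives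
`g z = z g` (`nz`), false; `M` abelian is false (`Mo` is not abelian); the last case contradicts `hO` (`O2C` unfolds to that map).
So `X = F*(G) = M` is simple.  In `X`: `Q' = (Q.subgroupOf X).subgroupOf (C_X(z))` is a normal self-centralising `2`-subgroup of
`C_X(z)`, so `F*(C_X(z)) = O₂(C_X(z))` (search `PLocal` for `fstar`: `isPGroup_fstar_iff`, char-`p` lemmas), and the image of
`O₂(C_X(z))` in `G` is normalised by `C_G(z)` (`X` normal), so lies in `O2C z = Q` (`le_O2C`).  Thus `F*(C_X(z)) ≃* Q`,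
extraspecial (`XS.isExtraspecial`) of order `2 ^ 9`; extraspecial groups are of symplectic type (search `IsOfSymplecticType`). -/
theorem fst {θ : Mo →* G} (inj : Function.Injective θ)
    (hO : O2C (θ (m 8)) = Qy (fun k => θ (m k))) (lx : LX (O2C (θ (m 8))) (θ (m 8))) :
    θ.range ≤ Cfsg.generalizedFittingSubgroup G ∧ IsSimpleGroup (Cfsg.generalizedFittingSubgroup G) ∧
      ¬ IsMulCommutative (Cfsg.generalizedFittingSubgroup G) ∧
      ∃ z : Cfsg.generalizedFittingSubgroup G, orderOf z = 2 ∧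
        Cfsg.IsOfSymplecticType (Cfsg.generalizedFittingSubgroup (centralizer ({z} : Set _))) ∧
        Cfsg.IsExtraspecial 2 (Cfsg.generalizedFittingSubgroup (centralizer ({z} : Set _))) ∧
        Nat.card (Cfsg.generalizedFittingSubgroup (centralizer ({z} : Set _))) = 2 ^ 9 := by
  have o := orc_θ inj
  have hb : θ (m 18) * θ (m 8) * (θ (m 18))⁻¹ ∈ O2C (θ (m 8)) := by
    rw [hO, xzx o]; exact mul_mem (q_mem (by decide)) (q_mem (by decide))
  have hne : θ (m 18) * θ (m 8) * (θ (m 18))⁻¹ ≠ θ (m 8) := by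
    rw [xzx o, Ne, mul_eq_right]
    simpa using o.ne (U := [0]) (V := []) (by decide +kernel)
  have hc : Nat.card (O2C (θ (m 8))) = 2 ^ 9 := hO ▸ card_Q o
  have hl := lx.isLarge_of_mem_map_conj hb hne (lx.mem_map_conj_of_card (by rw [hc]; norm_num) hb)
  have hM : θ.range ≤ normalClosure {θ (m 8)} := by
    rcases (normalClosure_normal.comap θ (H := normalClosure {θ (m 8)})).eq_bot_or_eq_top with e | e
    · have : m 8 ∈ (⊥ : Subgroup Mo) := e ▸ subset_normalClosure (Set.mem_singleton _)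
      exact absurd (by rw [mem_bot.1 this, map_one]) lx.z_ne
    · rintro _ ⟨a, rfl⟩
      exact (e ▸ mem_top a : a ∈ (normalClosure {θ (m 8)}).comap θ)
  rcases S5426.result _ hl _ lx.center_eq _ rfl with h | ⟨h, -⟩ | ⟨h1, h2, h3⟩ |
    ⟨-, L, u, -, -, -, -, -, -, z1, -, -, -, h⟩
  · exact absurd (conj_eq_of_comm (lx.comm_of_norm (by
      rw [normalizer_eq_top_iff.2 h]; exact mem_top _))) hne
  · exact absurd (conj_eq_of_comm (congrArg Subtype.val (h.is_comm.comm
      (⟨θ (m 18), hM ⟨_, rfl⟩⟩ : normalClosure {θ (m 8)}) ⟨θ (m 8), hM ⟨_, rfl⟩⟩))) hne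
  swap
  · exact absurd rfl h
  rw [← h1]
  refine ⟨hM, h2, h3, ?_⟩
  have hQ : O2C (θ (m 8)) ≤ normalClosure {θ (m 8)} := by
    refine le_trans ?_ hM
    rw [hO, Qy, ← map_genW]
    exact map_le_range _ _
  have lx' := lx_subX lx hQ
  have e := fstar_eq_of_LX lx' (o2c_subX _)
  have x := isExtraspecial_subgroupOf lx'
  refine ⟨_, lx'.orderOf_z, ?_⟩
  rw [e]
  obtain ⟨w, hw⟩ := exists_XS_top x
  exact ⟨symp_of_XS hw, x, by
    rw [Grp.card_subgroupOf_of_le (LX_le_centralizer lx'), Grp.card_subgroupOf_of_le hQ, hc]⟩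

end Cfsg.Agent.O3R
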