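import Mathlib
import Cfsg.Agent.O3R.C0
import Cfsg.Agent.O3S.AutQ

/-! The extraspecial group of `Ω₈⁺(2)` is `O₂(C_G(z))`. -/

set_option autoImplicit false
set_option maxRecDepth 100000

namespace Cfsg.Agent.O3R

open Subgroup Cfsg.Agent.TT Cfsg.Agent.LES Cfsg.Agent.XSC Cfsg.Agent.Comp.BN Cfsg.Agent.O8C

variable {G : Type*} [Group G] [Finite G]

namespace Loc

omit [Finite G] in
theorem exists_aut {θ : Mo →* G} (inj : Function.Injective θ) {r : G}
    (hr : r ∈ normalizer (θ.range : Set G)) : ∃ φ : MulAut Mo, ∀ a, θ (φ a) = r * θ a * r⁻¹ := by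
  let e := MonoidHom.ofInjective inj
  refine ⟨e.trans ((θ.range.normalizerMonoidHom ⟨r, hr⟩).trans e.symm), fun a => ?_⟩
  have h : ∀ x : θ.range, θ (e.symm x) = x := fun x => MonoidHom.apply_ofInjective_symm inj x
  simp only [MulEquiv.trans_apply, h]
  rfl

/-- one step towards the code `1` -/
def st (n : ℕ) : ℕ :=
  if lin (LM 9) n ≠ n then n ^^^ lin (LM 9) n else if lin (LM 10) n ≠ n then n ^^^ lin (LM 10) n
    else if lin (LM 11) n ≠ n then n ^^^ lin (LM 11) n else n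

theorem k1 : ∀ n < 256, n = 0 ∨ st (st (st n)) = 1 := by decide +kernel

theorem k2 : ∀ b < 8, (∀ k ∈ nth [] OW (2 ^ b), k < 18) ∧ wact (nth [] OW (2 ^ b)) 1 = 2 ^ b := by
  decide +kernel

omit [Finite G] in
theorem Q_map (θ : Mo →* G) : Qy (fun k => θ (m k)) = (Qy m).map θ := by rw [Qy, Qy, map_genW]

omit [Finite G] in
theorem S_map (θ : Mo →* G) : S0 (fun k => θ (m k)) = (S0 m).map θ :=
  le_antisymm (genOn_le fun _ hk => mem_map_of_mem θ (mem_genOn hk))
    (map_le_iff_le_comap.2 (genOn_le fun _ hk => mem_genOn (x := fun k => θ (m k)) hk))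

theorem aut_Q {φ : MulAut Mo} (h : φ (m 8) = m 8) {a : Mo} (ha : a ∈ Qy m) : φ a ∈ Qy m := by
  refine le_Q0 (N := (Qy m).map φ.toMonoidHom) (lx0.toXS.isPGroup.map _) ?_ ?_ ⟨a, ha, rfl⟩
  · rintro _ ⟨b, hb, rfl⟩
    have := congrArg φ (lx0.z_comm b hb)
    simpa [h] using this
  · rintro c hc _ ⟨b, hb, rfl⟩
    refine ⟨_, lx0.norm (φ.symm c) (φ.injective ?_) b hb, by simp⟩
    simpa [h] using hc

theorem normQ {θ : Mo →* G} (inj : Function.Injective θ) {r : G}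
    (hr : r ∈ normalizer (θ.range : Set G)) (hz : r * θ (m 8) = θ (m 8) * r) :
    r ∈ normalizer (Qy (fun k => θ (m k)) : Set G) := by
  obtain ⟨φ, hφ⟩ := exists_aut inj hr
  have h8 : φ (m 8) = m 8 := inj (by rw [hφ, conj_eq_of_comm hz])
  refine mem_normalizer_fintype fun a ha => ?_
  rw [SetLike.mem_coe, Q_map] at *
  obtain ⟨b, hb, rfl⟩ := ha
  exact ⟨_, aut_Q h8 hb, hφ b⟩

omit [Finite G] in
theorem normalizer_z {z : G} (hz : z * z = 1) (h1 : z ≠ 1) :
    normalizer ((zpowers z : Subgroup G) : Set G) = centralizer ({z} : Set G) := by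
  have k : ∀ c, c * z = z * c → ∀ x ∈ zpowers z, c * x * c⁻¹ ∈ zpowers z := fun c hc x hx => by
    rcases (mem_zpowers_invol hz).1 hx with rfl | rfl
    · simp
    · rw [conj_eq_of_comm hc]; exact mem_zpowers _
  ext c
  rw [mem_centralizer_singleton_iff, mem_normalizer_iff]
  refine ⟨fun h => comm_of_conj_eq (((mem_zpowers_invol hz).1 ((h z).1 (mem_zpowers z))).resolve_left
    (by simpa using h1)), fun h x => ⟨k c h x, fun hx => ?_⟩⟩
  simpa [mul_assoc] using k _ (comm_inv_left h) _ hx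

theorem syl {θ : Mo →* G} (inj : Function.Injective θ)
    (hi : ¬ 2 ∣ (normalizer (θ.range : Set G)).index) :
    ∃ S : Subgroup G, Fus.SylIn 2 S ⊤ ∧ S ≤ normalizer (θ.range : Set G) ∧
      S ≤ centralizer ({θ (m 8)} : Set G) := by
  have := Fact.mk Nat.prime_two
  have o := orc_θ inj
  have h0 : Fus.SylIn 2 (S0 fun k => θ (m k)) θ.range := by
    rw [S_map, MonoidHom.range_eq_map]; exact sylow0.map le_top θ
  have l0 : (S0 fun k => θ (m k)) ≤ θ.range := S_map θ ▸ map_le_range _ _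
  obtain ⟨S, h1, h2, h3⟩ := Fus.exists_sylIn (S_two o) (l0.trans le_normalizer)
  have h4 := h3.isPGroup h2
  have h5 : S ⊓ θ.range = S0 fun k => θ (m k) :=
    h0.eq_of_le l0 h4.to_inf_left (le_inf h1 l0) inf_le_right
  refine ⟨S, Fus.sylIn_of_not_dvd_relIndex h4 ?_, h2, fun s hs => mem_centralizer_singleton_iff.2
    (z_of_normS o (mem_normalizer_fintype fun a ha => ?_))⟩
  · rw [relIndex_top_right, ← relIndex_mul_index h2, Nat.prime_two.dvd_mul, not_or]
    exact ⟨h3.not_dvd_relIndex, hi⟩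
  · rw [SetLike.mem_coe, ← h5] at *
    exact mem_inf.2 ⟨mul_mem (mul_mem hs (mem_inf.1 ha).1) (inv_mem hs),
      (mem_normalizer_iff.1 (h2 hs) a).1 (mem_inf.1 ha).2⟩

theorem le_Q {θ : Mo →* G} (inj : Function.Injective θ) (hC : ∀ c, (∀ a, c * θ a = θ a * c) → c = 1)
    (hR : O2C (θ (m 8)) ≤ normalizer (θ.range : Set G)) : O2C (θ (m 8)) ≤ Qy fun k => θ (m k) := by
  intro r hr
  have o := orc_θ inj
  have h1 : ∀ a ∈ O2C (θ (m 8)), a ∈ θ.range → a ∈ Qy fun k => θ (m k) := by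
    rintro _ ha ⟨a, rfl⟩
    rw [Q_map]
    refine mem_map_of_mem θ (le_Q0 (N := (O2C (θ (m 8))).comap θ)
      ((O2C_isPGroup _).comap_of_injective θ inj) (fun b hb => inj ?_) (fun c hc b hb => ?_) ha)
    · simpa using comm_of_mem_O2C hb
    · simpa using conj_mem_O2C hb (c := θ c) (by simpa using congrArg θ hc)
  have rz := comm_of_mem_O2C hr
  have rn := normQ inj (hR hr) rz
  have h2 : ∀ l ∈ θ.range, l ∈ normalizer (Qy (fun k => θ (m k)) : Set G) → ∀ n < 256,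
      act (fun k => θ (m k)) l (act (fun k => θ (m k)) r n) =
        act (fun k => θ (m k)) r (act (fun k => θ (m k)) l n) := fun l hl ln n hn => by
    have a1 : l⁻¹ * r⁻¹ * l⁻¹⁻¹ * r ∈ O2C (θ (m 8)) :=
      mul_mem (conj_mem_O2C (inv_mem hr) (comm_inv_left (nz o ln))) hr
    have a2 : l⁻¹ * (r⁻¹ * l * r⁻¹⁻¹) ∈ θ.range :=
      mul_mem (inv_mem hl) ((mem_normalizer_iff.1 (inv_mem (hR hr)) l).1 hl)
    have a3 := h1 _ a1 (by simpa [mul_assoc] using a2)
    rw [← act_mul o ln rn, ← act_mul o rn ln, show l * r = r * l * (l⁻¹ * r⁻¹ * l⁻¹⁻¹ * r) by group,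
      act_mul o (mul_mem rn ln) (le_normalizer a3), act_Q o a3 hn]
  have h3 : act (fun k => θ (m k)) r 1 = 1 := by
    refine (fix_of_S o (act_lt _ _) fun g hg => ?_).resolve_left fun e => ?_
    · rw [h2 g (map_le_range _ _ (S_map θ ▸ hg)) (S_le_N o hg) 1 (by decide), S_act1 o hg]
    · have := act_inv o rn (n := 1) (by decide)
      rw [e, act_zero o] at this
      exact absurd this (by decide)
  have h4 : ∀ b < 8, act (fun k => θ (m k)) r (2 ^ b) = 2 ^ b := fun b hb => by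
    obtain ⟨e1, e2⟩ := k2 b hb
    have e3 := (act_w o e1 (n := 1) (by decide)).trans e2
    have := h2 _ (ev_mem_of fun k _ => ⟨m k, rfl⟩) (w_norm o e1) 1 (by decide)
    rw [h3, e3] at this
    exact this.symm
  obtain ⟨q, hq, e⟩ := (xsQ o).exists_inner (MulAut.conj r).toMonoidHom (conj_eq_of_comm rz)
    (triv_of_act o rn h4)
  have qL : q ∈ θ.range := map_le_range _ _ (Q_map θ ▸ hq)
  obtain ⟨φ, hφ⟩ := exists_aut inj (mul_mem (le_normalizer (inv_mem qL)) (hR hr))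
  refine (mul_mem_cancel_left (inv_mem hq)).1 ?_
  rcases autQ φ (fun a ha => inj (by
    have e' : r * θ a * r⁻¹ = q * θ a * q⁻¹ := e _ (Q_map θ ▸ mem_map_of_mem θ ha)
    rw [hφ]
    calc _ = q⁻¹ * (r * θ a * r⁻¹) * q := by group
      _ = _ := by rw [e']; group)) with rfl | rfl
  · rw [hC _ fun a => comm_of_conj_eq (hφ a).symm]; exact one_mem _
  · have := hC ((θ (m 8))⁻¹ * (q⁻¹ * r)) fun a => comm_of_conj_eq (by
      calc _ = (θ (m 8))⁻¹ * (q⁻¹ * r * θ a * (q⁻¹ * r)⁻¹) * θ (m 8) := by group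
        _ = _ := by rw [← hφ a]; simp [mul_assoc])
    rw [← inv_mul_eq_one.1 this]
    exact q_mem (y := fun k => θ (m k)) (by decide)

theorem Q_le {y : ℕ → G} (o : Orc y val) (hle : O2C (y 8) ≤ Qy y) {a : G} (ha : a ∈ O2C (y 8))
    (h0 : κ y a ≠ 0) : Qy y ≤ O2C (y 8) := by
  have zR : y 8 ∈ O2C (y 8) := self_mem_O2C (zz o)
  have h1 : ∀ k < 18, ∀ a ∈ O2C (y 8), ∃ b ∈ O2C (y 8), κ y b = κ y a ^^^ lin (LM k) (κ y a) :=
    fun k hk a ha => by
      have hb := conj_mem_O2C ha (lz o hk)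
      exact ⟨_, mul_mem ha hb, by
        rw [κ_mul o (hle ha) (hle hb), κ_conj o (l_norm o hk) (hle ha), act_l o hk (κ_lt a)]⟩
  have h2 : ∀ a ∈ O2C (y 8), ∃ b ∈ O2C (y 8), κ y b = st (κ y a) := fun a ha => by
    unfold st
    split_ifs
    exacts [h1 9 (by decide) a ha, h1 10 (by decide) a ha, h1 11 (by decide) a ha, ⟨a, ha, rfl⟩]
  obtain ⟨b, hb, e1⟩ := h2 a ha
  obtain ⟨c, hc, e2⟩ := h2 b hb
  obtain ⟨d, hd, e3⟩ := h2 c hc
  rw [e2, e1, (k1 _ (κ_lt a)).resolve_left h0] at e3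
  refine genW_le fun W hW => ?_
  obtain ⟨i, hi, rfl⟩ : ∃ b < 9, W = [b] := by revert W; decide
  rw [ev_cons, ev_nil, mul_one]
  rcases Nat.lt_succ_iff_lt_or_eq.1 hi with hi | rfl
  · obtain ⟨e4, e5⟩ := k2 i hi
    have hb := conj_mem_O2C hd (evz o e4)
    refine (eqv_of_κ o (q_mem (by omega)) (hle hb) ?_).mem zR hb
    rw [κ_q o hi, κ_conj o (w_norm o e4) (hle hd), e3, act_w o e4 (by decide), e5]
  · exact zR

end Loc

open Loc in
/-- The extraspecial group of `Ω₈⁺(2)` is `O₂(C_G(z))`, and it is large. -/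
theorem loc {θ : Mo →* G} (inj : Function.Injective θ) (hC : ∀ c, (∀ a, c * θ a = θ a * c) → c = 1)
    (hG : Cfsg.IsOfParabolicCharacteristic 2 G) (hi : ¬ 2 ∣ (normalizer (θ.range : Set G)).index) :
    O2C (θ (m 8)) = Qy (fun k => θ (m k)) ∧ LX (O2C (θ (m 8))) (θ (m 8)) := by
  have := Fact.mk Nat.prime_two
  have o := orc_θ inj
  have z2 : θ (m 8) * θ (m 8) = 1 := zz o
  have z1 : θ (m 8) ≠ 1 := z_ne o
  obtain ⟨S, h1, h2, h3⟩ := syl inj hi
  have hc : ∀ c, c * θ (m 8) = θ (m 8) * c → (∀ x ∈ O2C (θ (m 8)), x * c = c * x) →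
      c ∈ O2C (θ (m 8)) := fun c hz hc => by
    obtain ⟨T, hT⟩ := Fus.sylIn_top_iff.1 h1
    have := hG (zpowers (θ (m 8))) ((O2C_isPGroup _).to_le (zpowers_le.2 (self_mem_O2C z2)))
      (by simpa using z1) ⟨T, by rw [normalizer_z z2 z1, hT]; exact h3⟩
    rw [normalizer_z z2 z1] at this
    exact ⟨⟨c, mem_centralizer_singleton_iff.2 hz⟩,
      this fun x hx => Subtype.ext (hc _ ⟨x, hx, rfl⟩), rfl⟩
  have hR : O2C (θ (m 8)) ≤ S := fun r hr => by
    obtain ⟨g, hg, e⟩ := (h1.of_le h3 le_top).exists_conj (O2C_isPGroup (θ (m 8))) (map_subtype_le _)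
    simpa [mul_assoc] using
      e _ (conj_mem_O2C hr (comm_inv_left (mem_centralizer_singleton_iff.1 hg)))
  have hle := le_Q inj hC (hR.trans h2)
  have e : O2C (θ (m 8)) = Qy fun k => θ (m k) := by
    refine le_antisymm hle ?_
    by_cases h : ∃ a ∈ O2C (θ (m 8)), κ (fun k => θ (m k)) a ≠ 0
    · obtain ⟨a, ha, h0⟩ := h
      exact Q_le o hle ha h0
    · push Not at h
      have a1 : θ (m 0) * θ (m 8) = θ (m 8) * θ (m 0) := lz o (k := 0) (by decide)
      have := h _ (hc _ a1 fun x hx => by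
        rcases κ_zero o (hle hx) (h x hx) with rfl | rfl
        exacts [by simp, a1.symm])
      rw [κ_q o (b := 0) (by decide)] at this
      exact absurd this (by decide)
  have xs : XS (O2C (θ (m 8))) (θ (m 8)) := e ▸ xsQ o
  exact ⟨e, { xs with
    cent_mem := fun c h => hc c (h _ xs.z_mem).symm h
    norm := fun _ hc _ hx => conj_mem_O2C hx hc }⟩

end Cfsg.Agent.O3R
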