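import Mathlib
import Cfsg.Statements.S1763
import Cfsg.Agent.K.SporCard
import Cfsg.Agent.S0243
import Cfsg.Agent.S0280
import Cfsg.Agent.S0294
import Cfsg.Agent.S1067

/-! Excluding eight groups by their orders. -/

set_option autoImplicit false

namespace Cfsg.Agent.O3R

/-- Comparison of orders. -/
theorem ord {G : Type*} [Group G] [Finite G] (h1 : 174182400 ∣ Nat.card G) (h2 : ¬ 2 ^ 14 ∣ Nat.card G)
    (h : (∃ (F : Type) (_ : Field F) (_ : Fintype F), Fintype.card F = 2 ∧ (Nonempty (G ≃* Matrix.ProjectiveSpecialLinearGroup (Fin 6) F) ∨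
        Nonempty (G ≃* Cfsg.POmega F (Cfsg.quadFormPlus 4 F)) ∨
        (∃ a b : F, (∀ z₁ z₂ : F, z₁ ^ 2 + a * z₁ * z₂ + b * z₂ ^ 2 = 0 → z₁ = 0 ∧ z₂ = 0) ∧
          Nonempty (G ≃* Cfsg.POmega F (Cfsg.quadFormMinus 3 F a b))))) ∨
      (∃ (F : Type) (_ : Field F) (_ : Fintype F), Fintype.card F = 4 ∧ Nonempty (G ≃* Cfsg.PSU 6 F 2)) ∨
      (∃ (K : Type) (_ : Field K) (_ : Fintype K), Fintype.card K = 8 ∧ Nonempty (G ≃* ↥(Cfsg.Lie.twistedD4 K 2))) ∨
      (∃ (F : Type) (_ : Field F) (_ : Fintype F), Fintype.card F = 3 ∧ Nonempty (G ≃* Cfsg.POmega F (Cfsg.quadFormPlus 4 F))) ∨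
      Cfsg.Spor.IsoCo1 G ∨ Cfsg.Spor.IsoCo2 G ∨ Cfsg.Spor.IsoTh G ∨ Cfsg.Spor.IsoHN G) :
    (∃ (F : Type) (_ : Field F) (_ : Fintype F), Fintype.card F = 2 ∧
      Nonempty (G ≃* Cfsg.POmega F (Cfsg.quadFormPlus 4 F))) ∨
    (∃ (F : Type) (_ : Field F) (_ : Fintype F), Fintype.card F = 3 ∧
      Nonempty (G ≃* Cfsg.POmega F (Cfsg.quadFormPlus 4 F))) := by
  rcases h with ⟨F, _, _, hF, ⟨⟨e⟩⟩ | h | ⟨a, b, hab, ⟨e⟩⟩⟩ | ⟨F, _, _, hF, ⟨e⟩⟩ | ⟨F, _, _, hF, ⟨e⟩⟩ |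
    h | h | h | h | h
  · have := S0243.result hF 6 (by norm_num)
    rw [← Nat.card_congr e.toEquiv] at this
    norm_num [Fin.prod_univ_succ] at this
    omega
  · exact .inl ⟨F, _, _, hF, h⟩
  · have := S0294.result hF 4 le_rfl a b hab
    rw [← Nat.card_congr e.toEquiv] at this
    norm_num [Finset.prod_range_succ] at this
    omega
  · have := S0280.result (q := 2) hF 6 (by norm_num)
    rw [← Nat.card_congr e.toEquiv] at this
    norm_num [Finset.prod_range_succ, Nat.even_iff] at this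
    omega
  · have := S1067.result (q := 2) Nat.prime_two.isPrimePow hF
    rw [← Nat.card_congr e.toEquiv] at this
    omega
  · exact .inr h
  · exact (h2 (by rw [K.card_isoCo1 h]; norm_num)).elim
  · exact (h2 (by rw [K.card_isoCo2 h]; norm_num)).elim
  · exact (h2 (by rw [K.card_isoTh h]; norm_num)).elim
  · exact (h2 (by rw [K.card_isoHN h]; norm_num)).elim

end Cfsg.Agent.O3R
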