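import Mathlib
import Cfsg.Agent.O3R.MoF
import Cfsg.Agent.S0817
import Cfsg.Agent.Class.FieldTransport
import Cfsg.Agent.PLocal.FStar

/-! The subgroup `F*(H) ≅ Ω₈⁺(2)`. -/

set_option autoImplicit false
set_option maxRecDepth 100000

namespace Cfsg.Agent.O3R

open Subgroup Cfsg.Agent.TT Cfsg.Agent.LES Cfsg.Agent.XSC Cfsg.Agent.Comp.BN Cfsg.Agent.O8C

variable {G : Type*} [Group G] [Finite G]

/-- A field with two elements is `ZMod 2` (transport `POmega`; look for an existing field-change
equivalence, e.g. `ca find 'card F = 2'`), `Spor.ModelO8p.equivP : POmega (ZMod 2) (quadFormPlus 4 _) ≃* Mo`; `θ` is the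
composite with `H.subtype ∘ subtype`.  An element `c` centralising `L = θ.range` normalises it, so lies in `H`, then in `F*(H)`
(`PLocal.centralizer_fstar_le`), then in the centre of the simple non-abelian group `Mo`.  So `H = N(L)` embeds in
`MulAut Mo`, of order `6 * 174182400` (`S0817.result 2 1`, `card_Mo`). -/
theorem setup (H : Subgroup G) (hF : ∃ (F : Type) (_ : Field F) (_ : Fintype F), Fintype.card F = 2 ∧
      Nonempty (↥(Cfsg.generalizedFittingSubgroup ↥H) ≃* Cfsg.POmega F (Cfsg.quadFormPlus 4 F)))
    (hN : normalizer (((Cfsg.generalizedFittingSubgroup ↥H).map H.subtype : Subgroup G) : Set G) = H) :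
    ∃ θ : Mo →* G, Function.Injective θ ∧ normalizer (θ.range : Set G) = H ∧
      (∀ c, (∀ a, c * θ a = θ a * c) → c = 1) ∧ Nat.card H ∣ 6 * 174182400 := by
  obtain ⟨F, _, _, hF, ⟨e0⟩⟩ := hF
  let e1 : POmega F (quadFormPlus 4 F) ≃* Mo :=
    (Class.pomegaCongr (Class.ringEquivZMod hF) _ _ (Class.quadFormPlus_comp _ 4)).trans
      Spor.ModelO8p.equivP
  let e := e0.trans e1
  have cen : ∀ c : H, c ∈ centralizer (generalizedFittingSubgroup H : Set H) → c = 1 := by
    intro c hc
    have h1 := PLocal.centralizer_fstar_le H hc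
    have h2 : e ⟨c, h1⟩ ∈ center Mo := mem_center_iff.2 fun a => by
      obtain ⟨a, rfl⟩ := e.surjective a
      rw [← map_mul, ← map_mul]
      exact congrArg e (Subtype.ext (hc a a.2))
    rcases (center Mo).normal_of_characteristic.eq_bot_or_eq_top with f | f
    · rw [f, mem_bot, map_eq_one_iff _ e.injective] at h2
      exact congrArg Subtype.val h2
    · have : IsMulCommutative Mo := ⟨⟨fun a b => mem_center_iff.1 (f.ge (mem_top b)) a⟩⟩
      have hp : (Nat.card Mo).Prime := by
        let _ : CommGroup Mo := { (inferInstance : Group Mo) with mul_comm := this.is_comm.comm }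
        exact IsSimpleGroup.prime_card
      rw [card_Mo] at hp
      exact absurd hp (by norm_num)
  have rg : ((H.subtype.comp (generalizedFittingSubgroup H).subtype).comp (e.symm : Mo →* _)).range =
      (generalizedFittingSubgroup H).map H.subtype := by
    rw [MonoidHom.range_comp, MonoidHom.range_eq_top.2 e.symm.surjective, ← MonoidHom.range_eq_map,
      MonoidHom.range_comp, range_subtype]
  refine ⟨(H.subtype.comp (generalizedFittingSubgroup H).subtype).comp (e.symm : Mo →* _),
    (H.subtype_injective.comp (subtype_injective _)).comp e.symm.injective, rg ▸ hN,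
    fun c hc => ?_, ?_⟩
  · have hH : c ∈ H := by
      rw [← hN, ← rg]
      refine centralizer_le_normalizer _ ?_
      rintro _ ⟨a, rfl⟩
      exact (hc a).symm
    exact congrArg Subtype.val (cen ⟨c, hH⟩ fun a ha => Subtype.ext (by
      simpa using (hc (e ⟨a, ha⟩)).symm))
  · have inj : Function.Injective (MulAut.conjNormal (H := generalizedFittingSubgroup H)) :=
      (injective_iff_map_eq_one _).2 fun c hc => cen c fun a ha => by
        have := congrArg Subtype.val (MulEquiv.congr_fun hc ⟨a, ha⟩)
        exact (mul_inv_eq_iff_eq_mul.1 this).symm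
    have := card_dvd_of_injective _ inj
    rwa [Nat.card_congr (MulAut.congr e0).toEquiv, S0817.result 2 1 le_rfl hF 4 le_rfl,
      Nat.card_congr e1.toEquiv, card_Mo] at this

end Cfsg.Agent.O3R
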